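import Cfsg.Agent.H982.EP.OmPlug
import Cfsg.Agent.H814.O8P.RowFin

/-!
# S3499: `OrthRes12` (helper982)
-/

set_option autoImplicit false

namespace Cfsg.Agent.H982.EP

/-- **The residual class of the orthogonal groups in the dimensions 7 ... 12.** -/
theorem orthRes12 : Cfsg.Agent.H419.EP.OrthRes12 := orthRes12_left Cfsg.Agent.H814.O8P.rowPlus_eight

end Cfsg.Agent.H982.EP
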