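import Cfsg.Agent.H982.EP.OmRes
import Cfsg.Agent.H982.EP.OwnGTwo
import Cfsg.Agent.H991.EP.Row12p
import Cfsg.Agent.H87.EPR.RowTwelveMinusU
import Cfsg.Agent.H803.EP.RowOmElevenU
import Cfsg.Agent.H281.EP.PlusTen
import Cfsg.Agent.H12.EP.Row15S
import Cfsg.Agent.H621.EP.TenMinusFin
import Cfsg.Agent.H7.EP.NineFin
import Cfsg.Agent.H59.EP.UBFin
import Cfsg.Agent.H84.EP.Sp56
import Cfsg.Agent.H84.EP.RowSp6
import Cfsg.Agent.H814.EP.RowA9
import Cfsg.Agent.H699.EP.Row5827Main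
import Cfsg.Agent.S1000
import Cfsg.Agent.S5836
import Cfsg.Agent.S5848
import Cfsg.Agent.S0000

/-!
# S3499: the rows plugged into `OrthRes12` (helper982)
-/

set_option autoImplicit false

namespace Cfsg.Agent.H982.EP

open Subgroup Cfsg Cfsg.Geo Cfsg.Agent.H419.EP Cfsg.Agent.H284
open scoped MatrixGroups Matrix

theorem hknown : ∀ (T : Type) [Group T] [Finite T] [IsSimpleGroup T], IsKnownSimple' T :=
  fun T _ _ _ => Cfsg.Agent.S0000.result (G := T)

/-- dimension 7 -/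
theorem rowOdd_three : RowOdd 3 := fun hs _ _ hE _ _ _ hodd m hres =>
  H12.EP.row_s5815 hs hE hodd m hres (fun hS hc => H814.EP9.row_hasSoc hE hS (Or.inl hc))
    (fun hS _ => H84.EP.row_sp6 H84.EP.res56 hE hodd m hS) (fun hS => (H84.EP.row_sp6 H84.EP.res56 hE hodd m hS).elim)
    (fun hS => ownG2 hs hE hodd m hS)

/-- dimension 8, minus type -/
theorem rowMinus_eight : RowMinus 8 := fun hs _ _ hE _ _ _ _ m hQ hp hres =>
  H699.EP.row_of_list H699.EP.st5827 hs hE m hQ hp hres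

/-- dimension 9 -/
theorem rowOdd_four : RowOdd 4 :=
  H7.EP.rowOdd_four H59.EP.twoGen (fun h p a b hp hc => Cfsg.Agent.S1000.result h p a b hp hc)
    (fun hodd H hH hS => Cfsg.Agent.S5836.result hodd H hH hS)

/-- dimension 10 -/
theorem rowPlus_ten : RowPlus 10 :=
  H281.EP.rowPlus_ten_of (fun Q hQ hplus H hH hS => Cfsg.Agent.S5848.result Q hQ hplus H hH hS) H59.EP.twoGen

theorem rowMinus_ten : RowMinus 10 := H621.EP.rowMinus_ten_fin hknown H59.EP.twoGen

/-- dimension 11 -/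
theorem rowOdd_five : RowOdd 5 := fun hs _ _ hE _ _ _ hodd m hres =>
  H803.EPB.row_om_eleven_of H59.EP.twoGen hs hE hodd m hres

/-- dimension 12 -/
theorem rowPlus_twelve : RowPlus 12 := fun hs _ _ hE _ _ _ _ m hQ hp hres =>
  Cfsg.Agent.H991.EP.row_S5872 hs hE m hQ hp hres

theorem rowMinus_twelve : RowMinus 12 := fun hs _ _ hE _ _ _ _ m hQ hp hres =>
  Cfsg.Agent.H87.EPR.row_S5875 hs hE m hQ hp hres

/-- **`OrthRes12` from the row `Ω₈⁺(q)`.** -/
theorem orthRes12_left (r8p : RowPlus 8) : OrthRes12 :=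
  orthRes12_of rowOdd_three r8p rowMinus_eight rowOdd_four rowPlus_ten rowMinus_ten rowOdd_five rowPlus_twelve
    rowMinus_twelve

end Cfsg.Agent.H982.EP
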